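import Cfsg.Agent.H152.PS.Rep
import Cfsg.Agent.H996.Deg.RgdEdge

/-!
# Principal series characters have degree divisible by `p` (helper152)

A nontrivial irreducible character with `B`-fixed vectors has degree divisible by `p` (from helper996's `dvd_degree`).
-/

set_option autoImplicit false
set_option linter.unusedSectionVars false

namespace Cfsg.Agent.H152.PS

open CoxeterSystem Cfsg.Agent.ChevalleyStructure.CoxeterGeom Cfsg.Agent.Tits.Roots Cfsg.Agent.Tits.Core
  Cfsg.Agent.Tits.Exchange Cfsg.Agent.Nodes.Reps Cfsg.Agent.Nodes.BNOf Cfsg.Agent.Nodes.StabComb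
  Cfsg.Agent.Nodes.Bruhat Cfsg.Agent.Nodes.LeviDec Cfsg.Agent.Omega.EH3.Kf.Lev
open Cfsg.Agent.Characters.Core

variable {I W Y : Type*} [Fintype I] [DecidableEq I] [Group W] [Group Y] {M : CoxeterMatrix I}
  {cs : CoxeterSystem M W} {A : I → I → ℤ} {h : IsCartan M A} {p : ℕ} {T : Subgroup Y} {n : I → Y}
  {X : (I → ℤ) → Subgroup Y}

/-- **A nontrivial irreducible character of `Y` with `B`-fixed vectors has degree divisible by `p`.** -/
theorem dvd_degree [Finite W] [Finite Y] [Fact p.Prime] (R : RGD cs h p T n X) (hG : GG cs h T X = ⊤)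
    (hC : CommGen cs h X) [Fintype (RGD.B cs h T X)] {χ : Y → ℂ} (hχ : Cfsg.IsIrrCharacter Y χ) (h1 : χ ≠ fun _ => 1)
    (hB : ∑ b : RGD.B cs h T X, χ b ≠ 0) : p ∣ Cfsg.charDegree χ := by
  classical
  have : Fintype Y := Fintype.ofFinite Y
  obtain ⟨d, hd0, hd⟩ := isIrr_apply_one hχ
  have hin : classInner (fixedPointCharacter (RGD.B cs h T X)) χ ≠ 0 := by
    intro h2
    have h3 : classInner χ (fixedPointCharacter (RGD.B cs h T X)) = 0 := by
      rw [← classInner_conj_symm, h2, map_zero]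
    rw [classInner_fpc' _ (isIrr_isClassFunction hχ), avg_eq, mul_eq_zero] at h3
    exact hB (h3.resolve_left (inv_ne_zero card_ne_zero_complex))
  have h2 := Cfsg.Agent.H996.Deg.dvd_degree R (Fact.out : p.Prime) hG hC hχ h1 hin hd
  rwa [Cfsg.Agent.H670.PSing.charDegree_eq_of hd]

end Cfsg.Agent.H152.PS
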