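import Cfsg.Agent.H969.TT.Principal

/-!
# Principal series representations: multiplicities of linear characters of `U` (helper152)

The analogues of H969/TT/{TopAbs, TopRGD, Levi} for a representation instead of a permutation module.
-/

set_option autoImplicit false
set_option linter.unusedSectionVars false

namespace Cfsg.Agent.H152.PS

open MulAction Cfsg Cfsg.Agent.Characters.Core Cfsg.Agent.H969.TT.Count Cfsg.Agent.H969.TT.TopAbs
open scoped ComplexConjugate

section A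

variable {Y : Type*} [Group Y] [Finite Y] {E : Type*} [AddCommGroup E] [Module ℂ E]

/-- The representation is generated by its `B`-fixed vectors (dual formulation). -/
def PSr (B : Subgroup Y) [Fintype B] (ρ : Representation ℂ Y E) : Prop :=
  ∀ v : E, (∀ g : Y, ∑ b : B, ρ (b : Y) (ρ g v) = 0) → v = 0

theorem psr_of_irr (B : Subgroup Y) [Fintype B] {ρ : Representation ℂ Y E}
    (hρ : ρ.IsIrreducible) (h : ∑ b : B, ρ.character b ≠ 0) : PSr B ρ := by
  let U : Subrepresentation ρ :=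
    { toSubmodule :=
        { carrier := {v | ∀ g : Y, ∑ b : B, ρ (b : Y) (ρ g v) = 0}
          add_mem' := fun {v w} hv hw g => by
            simp only [map_add, Finset.sum_add_distrib]
            rw [hv g, hw g, add_zero]
          zero_mem' := fun g => by simp
          smul_mem' := fun c v hv g => by
            simp only [map_smul]
            rw [← Finset.smul_sum, hv g, smul_zero] }
      apply_mem_toSubmodule := fun g v hv g' => by
        have := hv (g' * g)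
        simp only [map_mul] at this
        exact this }
  have hs : IsSimpleOrder (Subrepresentation ρ) := hρ
  rcases IsSimpleOrder.eq_bot_or_eq_top U with hU | hU
  · intro v hv
    have h1 : v ∈ U.toSubmodule := hv
    rw [hU] at h1
    exact (Submodule.mem_bot ℂ).1 h1
  · exfalso
    apply h
    have h1 : ∑ b : B, ρ (b : Y) = 0 := by
      refine LinearMap.ext fun v => ?_
      have h2 : v ∈ U.toSubmodule := by
        rw [hU]
        exact Submodule.mem_top
      have h3 := h2 1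
      rw [map_one] at h3
      rw [LinearMap.sum_apply]
      exact h3
    have h4 : ∑ b : B, ρ.character (b : Y) = LinearMap.trace ℂ _ (∑ b : B, ρ (b : Y)) := by
      rw [map_sum]
      rfl
    rw [h4, h1, map_zero]

/-- An irreducible character without `B`-invariants is not a constituent. -/
theorem sum_irr_eq_zero [Fintype Y] {B : Subgroup Y} [Fintype B] {ρ : Representation ℂ Y E}
    (hPS : PSr B ρ) {l : Y → ℂ} (hl : IsIrrCharacter Y l) (h : ∑ b : B, l b = 0) :
    ∑ y : Y, ρ.character y * conj (l y) = 0 := by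
  have hcl := isIrr_isClassFunction hl
  have h0 : ∑ y : Y, conj (l y) • ρ y = 0 := by
    refine LinearMap.ext fun v => ?_
    rw [LinearMap.zero_apply]
    apply hPS
    intro g
    have h1 : ∀ b : B, ρ (b : Y) (ρ g ((∑ y : Y, conj (l y) • ρ y) v)) =
        ∑ z : Y, conj (l (g⁻¹ * (b : Y)⁻¹ * z)) • ρ z v := by
      intro b
      rw [LinearMap.sum_apply, map_sum, map_sum]
      refine Fintype.sum_equiv (Equiv.mulLeft ((b : Y) * g)) _ _ fun y => ?_
      rw [Equiv.coe_mulLeft, LinearMap.smul_apply, map_smul, map_smul]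
      congr 1
      · congr 2
        group
      · rw [map_mul, map_mul]
        rfl
    rw [Finset.sum_congr rfl fun b _ => h1 b, Finset.sum_comm]
    refine Finset.sum_eq_zero fun z _ => ?_
    rw [← Finset.sum_smul]
    have h2 : ∑ b : B, conj (l (g⁻¹ * (b : Y)⁻¹ * z)) = 0 := by
      have h3 : ∑ b : B, l (g⁻¹ * (b : Y)⁻¹ * z) = 0 := by
        rw [← sum_mul_eq_zero B hl h (z * g⁻¹)]
        refine Fintype.sum_equiv (Equiv.inv B) _ _ fun b => ?_
        have h4 : g⁻¹ * (b : Y)⁻¹ * z = z⁻¹ * (z * g⁻¹ * ((Equiv.inv B b : B) : Y)) * z⁻¹⁻¹ := by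
          change _ = z⁻¹ * (z * g⁻¹ * (b : Y)⁻¹) * z⁻¹⁻¹
          group
        rw [h4, hcl]
      rw [← map_sum, h3, map_zero]
    rw [h2, zero_smul]
  have h1 : ∑ y : Y, ρ.character y * conj (l y) = LinearMap.trace ℂ _ (∑ y : Y, conj (l y) • ρ y) := by
    rw [map_sum]
    refine Finset.sum_congr rfl fun y _ => ?_
    rw [map_smul, smul_eq_mul, mul_comm]
    rfl
  rw [h1, h0, map_zero]

/-- **The multiplicity of `ψ` in a principal series representation.** -/
theorem mult_eq' [Fintype Y] [FiniteDimensional ℂ E] {ρ : Representation ℂ Y E} (B U : Subgroup Y) [Fintype B]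
    [Fintype U] (hPS : PSr B ρ) (ψ : U →* ℂˣ)
    {St : Y → ℂ} (hSt : IsIrrCharacter Y St)
    (ha : mult (Y ⧸ B) ψ.ker = 1) (hb : ∑ u : U, ((ψ u⁻¹ : ℂˣ) : ℂ) * St u = (Nat.card U : ℂ))
    (hc : ∑ b : B, St b ≠ 0) :
    ∑ u : U, ((ψ u⁻¹ : ℂˣ) : ℂ) * ρ.character u = (Nat.card U : ℂ) * classInner ρ.character St := by
  classical
  have : Fintype (IrrCharacter Y) := @Fintype.ofFinite _ finite_irr
  have : Fintype (Y ⧸ B) := Fintype.ofFinite _
  have hU0 : (Nat.card U : ℂ) ≠ 0 := card_ne_zero_complex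
  obtain ⟨a, hπ⟩ := exists_nat_comb (isCharacter_of_rep ρ)
  obtain ⟨b, hβ⟩ := exists_nat_comb (isCharacter_perm (Y := Y) (Ω := Y ⧸ B))
  -- the multiplicities of `ψ`
  have hcex : ∀ χ : IrrCharacter Y, ∃ c : ℕ, ∑ u : U, ((ψ u⁻¹ : ℂˣ) : ℂ) * (χ : Y → ℂ) u = (Nat.card U : ℂ) * c := by
    intro χ
    have h1 : IsCharacter U (fun u : U => (χ : Y → ℂ) u) :=
      isCharacter_comp U.subtype (isIrr_isCharacter χ.2)
    have h2 : IsCharacter U (fun u : U => ((ψ u : ℂˣ) : ℂ)) :=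
      isIrr_isCharacter (Cfsg.Agent.Characters.Linear.isIrrCharacter_hom ψ)
    obtain ⟨c, hc⟩ := classInner_isNat h1 h2
    refine ⟨c, ?_⟩
    rw [← hc, classInner_def, ← mul_assoc, mul_inv_cancel₀ hU0, one_mul]
    refine Finset.sum_congr rfl fun u _ => ?_
    rw [← isCharacter_apply_inv h2 u, mul_comm]
  choose c hc' using hcex
  have hsum : ∀ (m : IrrCharacter Y → ℕ) (f : Y → ℂ), f = ∑ χ : IrrCharacter Y, m χ • (χ : Y → ℂ) →
      ∑ u : U, ((ψ u⁻¹ : ℂˣ) : ℂ) * f u = (Nat.card U : ℂ) * ((∑ χ, m χ * c χ : ℕ) : ℂ) := by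
    intro m f hf
    have h1 : ∀ u : U, ((ψ u⁻¹ : ℂˣ) : ℂ) * f u =
        ∑ χ : IrrCharacter Y, (m χ : ℂ) * (((ψ u⁻¹ : ℂˣ) : ℂ) * (χ : Y → ℂ) u) := by
      intro u
      rw [hf, Finset.sum_apply, Finset.mul_sum]
      refine Finset.sum_congr rfl fun χ _ => ?_
      rw [Pi.smul_apply, nsmul_eq_mul]
      ring
    rw [Finset.sum_congr rfl fun u _ => h1 u, Finset.sum_comm]
    push_cast
    rw [Finset.mul_sum]
    refine Finset.sum_congr rfl fun χ _ => ?_
    rw [← Finset.mul_sum, hc']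
    ring
  -- the coset space
  have h1 : ∑ χ, b χ * c χ = 1 := by
    have h2 := hsum b _ hβ
    have h3 := sum_char (U := U) (Ω := Y ⧸ B) ψ
    rw [ha] at h3
    have h4 : ∀ u : U, (Nat.card (fixedBy (Y ⧸ B) u) : ℂ) = (Nat.card (fixedBy (Y ⧸ B) (u : Y)) : ℂ) := fun _ => rfl
    rw [Finset.sum_congr rfl fun u _ => by rw [h4 u], h2] at h3
    have h5 := mul_left_cancel₀ hU0 h3
    exact_mod_cast h5
  set S : IrrCharacter Y := ⟨St, hSt⟩ with hS
  have hcS : c S = 1 := by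
    have h2 := hc' S
    rw [hb] at h2
    have h3 : (Nat.card U : ℂ) * ((c S : ℕ) : ℂ) = (Nat.card U : ℂ) * ((1 : ℕ) : ℂ) := by
      rw [← h2]; simp
    exact_mod_cast mul_left_cancel₀ hU0 h3
  have hbχ : ∀ χ : IrrCharacter Y, b χ = 0 → ∑ y : B, (χ : Y → ℂ) y = 0 := by
    intro χ h2
    have h3 := classInner_sum_nsmul_irr b χ
    rw [← hβ, h2, Nat.cast_zero, classInner_def, mul_eq_zero] at h3
    have h4 := h3.resolve_left (inv_ne_zero card_ne_zero_complex)
    have h5 := congrArg conj h4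
    rw [map_sum, map_zero] at h5
    have h6 : ∑ y : Y, (χ : Y → ℂ) y * (Nat.card (fixedBy (Y ⧸ B) y) : ℂ) = 0 := by
      rw [← h5]
      refine Finset.sum_congr rfl fun y _ => ?_
      rw [map_mul, Complex.conj_conj, Complex.conj_natCast, mul_comm]
    rw [frob B (isIrr_isClassFunction χ.2), mul_eq_zero] at h6
    refine h6.resolve_left ?_
    exact_mod_cast Subgroup.index_ne_zero_of_finite
  have hbS : b S ≠ 0 := fun h2 => hc (hbχ S h2)
  have haχ : ∀ χ : IrrCharacter Y, b χ = 0 → a χ = 0 := by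
    intro χ h2
    have h3 := sum_irr_eq_zero hPS χ.2 (hbχ χ h2)
    have h4 := classInner_sum_nsmul_irr a χ
    rw [← hπ, classInner_def, h3, mul_zero] at h4
    exact_mod_cast h4.symm
  have hcχ : ∀ χ : IrrCharacter Y, χ ≠ S → a χ * c χ = 0 := by
    intro χ hne
    by_cases h2 : b χ = 0
    · rw [haχ χ h2, zero_mul]
    · have h3 : b χ * c χ + b S * c S ≤ 1 := by
        rw [← h1, ← Finset.add_sum_erase _ _ (Finset.mem_univ S), add_comm]
        refine Nat.add_le_add_left ?_ _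
        exact Finset.single_le_sum (f := fun χ => b χ * c χ) (fun _ _ => Nat.zero_le _)
          (Finset.mem_erase.2 ⟨hne, Finset.mem_univ χ⟩)
      have h4 : 1 ≤ b S * c S := by
        rw [hcS, mul_one]; exact Nat.one_le_iff_ne_zero.2 hbS
      have h5 : b χ * c χ = 0 := by omega
      rcases Nat.mul_eq_zero.1 h5 with h6 | h6
      · exact absurd h6 h2
      · rw [h6, mul_zero]
  have h2 : ∑ χ, a χ * c χ = a S := by
    rw [Finset.sum_eq_single S (fun χ _ h => hcχ χ h) (fun h => absurd (Finset.mem_univ _) h), hcS, mul_one]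
  have h3 := hsum a _ hπ
  rw [h2] at h3
  rw [h3]
  have h6 := classInner_sum_nsmul_irr a S
  rw [← hπ] at h6
  rw [← h6]

end A

/-! ### averages -/

section avg

variable {Y : Type*} [Group Y]

/-- the average over the subgroup `P` -/
noncomputable def avg (P : Subgroup Y) (f : Y → ℂ) : ℂ := (Nat.card P : ℂ)⁻¹ * ∑ᶠ x : P, f x

theorem avg_eq (P : Subgroup Y) [Fintype P] (f : Y → ℂ) : avg P f = (Nat.card P : ℂ)⁻¹ * ∑ x : P, f x := by
  rw [avg, finsum_eq_sum_of_fintype]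

/-- `⟨χ, 1_P^Y⟩` -/
theorem classInner_fpc' [Fintype Y] (P : Subgroup Y) {χ : Y → ℂ} (hχ : IsClassFunction Y χ) :
    classInner χ (fixedPointCharacter P) = avg P χ := by
  classical
  have : Fintype P := Fintype.ofFinite _
  have h1 := frob P hχ
  rw [classInner_def, avg_eq]
  have h2 : ∀ y : Y, χ y * (starRingEnd ℂ) (fixedPointCharacter P y) =
      χ y * (Nat.card (MulAction.fixedBy (Y ⧸ P) y) : ℂ) := by
    intro y
    rw [fixedPointCharacter, Complex.conj_natCast]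
  rw [Finset.sum_congr rfl fun y _ => h2 y, h1]
  have h5 : (Nat.card Y : ℂ) = (P.index : ℂ) * (Nat.card P : ℂ) := by
    rw [← P.card_mul_index]; push_cast; ring
  have h6 : (P.index : ℂ) ≠ 0 := by exact_mod_cast Subgroup.index_ne_zero_of_finite
  rw [h5, mul_inv, mul_mul_mul_comm, inv_mul_cancel₀ h6, one_mul]

/-- `P = L V` -/
theorem sum_mul_of_dec [Finite Y] {K V P : Subgroup Y} {L : Subgroup K} [Fintype P] [Fintype L] [Fintype V] (hVP : V ≤ P)
    (hLP : ∀ l ∈ L, (l : Y) ∈ P) (hP : ∀ g ∈ P, ∃ l ∈ L, ∃ v ∈ V, g = (l : Y) * v) (hKV : K ⊓ V = ⊥) (f : Y → ℂ) :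
    ∑ x : P, f x = ∑ l : L, ∑ v : V, f ((l : K) * (v : Y)) ∧ Nat.card P = Nat.card L * Nat.card V := by
  let e : L × V ≃ P := Equiv.ofBijective (fun x => ⟨((x.1 : K) : Y) * x.2, mul_mem (hLP _ x.1.2) (hVP x.2.2)⟩) (by
    constructor
    · rintro ⟨l, v⟩ ⟨l', v'⟩ h
      have h1 : ((l : K) : Y) * v = ((l' : K) : Y) * v' := congrArg Subtype.val h
      have h2 : ((l' : K) : Y)⁻¹ * (l : K) = v' * (v : Y)⁻¹ := by
        rw [inv_mul_eq_iff_eq_mul, ← mul_assoc, ← h1, mul_inv_cancel_right]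
      have h3 : ((l' : K) : Y)⁻¹ * (l : K) ∈ K ⊓ V := ⟨K.mul_mem (K.inv_mem (l' : K).2) (l : K).2, by
        rw [h2]; exact V.mul_mem v'.2 (V.inv_mem v.2)⟩
      rw [hKV, Subgroup.mem_bot] at h3
      have h4 : ((l' : K) : Y) = (l : K) := inv_mul_eq_one.1 h3
      rw [h3] at h2
      have h5 : (v' : Y) = v := by
        rw [eq_comm, mul_inv_eq_one] at h2
        exact h2
      exact Prod.ext (Subtype.ext (Subtype.ext h4.symm)) (Subtype.ext h5.symm)
    · rintro ⟨g, hg⟩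
      obtain ⟨l, hl, v, hv, rfl⟩ := hP g hg
      exact ⟨(⟨l, hl⟩, ⟨v, hv⟩), rfl⟩)
  constructor
  · rw [← Fintype.sum_prod_type' (f := fun (l : L) (v : V) => f ((l : K) * (v : Y)))]
    exact (Fintype.sum_equiv e _ _ fun x => rfl).symm
  · rw [← Nat.card_prod]
    exact (Nat.card_congr e).symm

end avg

/-! ### fixed vectors of a normalised subgroup -/

section fixV

variable {Y : Type*} [Group Y] {E : Type*} [AddCommGroup E] [Module ℂ E]

/-- the `V`-fixed vectors -/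
def fixV (V : Subgroup Y) (ρ : Representation ℂ Y E) : Submodule ℂ E where
  carrier := {w | ∀ v ∈ V, ρ v w = w}
  add_mem' := fun {a b} ha hb v hv => by rw [map_add, ha v hv, hb v hv]
  zero_mem' := fun v _ => map_zero _
  smul_mem' := fun c x hx v hv => by rw [map_smul, hx v hv]

variable {V K : Subgroup Y} (hn : ∀ k ∈ K, ∀ v ∈ V, k * v * k⁻¹ ∈ V) (ρ : Representation ℂ Y E)

include hn in
theorem fixV_inv (k : K) (w : E) (hw : w ∈ fixV V ρ) : ρ (k : Y) w ∈ fixV V ρ := by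
  intro v hv
  have h1 := hw _ (hn (k : Y)⁻¹ (inv_mem k.2) v hv)
  rw [inv_inv] at h1
  have h2 : (v : Y) * k = k * ((k : Y)⁻¹ * v * k) := by group
  rw [← Module.End.mul_apply, ← map_mul, h2, map_mul, Module.End.mul_apply, h1]

/-- the representation of `K` on the `V`-fixed vectors -/
def repV : Representation ℂ K (fixV V ρ) where
  toFun k := (ρ (k : Y)).restrict (fixV_inv hn ρ k)
  map_one' := by
    ext w
    show ρ ((1 : K) : Y) w.1 = w.1
    rw [Subgroup.coe_one, map_one]; rfl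
  map_mul' k l := by
    ext w
    show ρ ((k * l : K) : Y) w.1 = ρ (k : Y) (ρ (l : Y) w.1)
    rw [Subgroup.coe_mul, map_mul]; rfl

@[simp] theorem coe_repV (k : K) (w : fixV V ρ) : ((repV hn ρ k w : fixV V ρ) : E) = ρ (k : Y) w := rfl

theorem char_repV [Finite Y] [Fintype V] [FiniteDimensional ℂ E] (k : K) :
    (repV hn ρ).character k = (Nat.card V : ℂ)⁻¹ * ∑ v : V, ρ.character ((k : Y) * v) := by
  have hV0 : (Nat.card V : ℂ) ≠ 0 := card_ne_zero_complex
  set f : E →ₗ[ℂ] E := (Nat.card V : ℂ)⁻¹ • ∑ v : V, ρ ((k : Y) * v) with hf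
  have hsum : ∀ w : E, (Nat.card V : ℂ)⁻¹ • ∑ v : V, ρ (v : Y) w ∈ fixV V ρ := by
    intro w x hx
    rw [map_smul, map_sum]
    congr 1
    refine Fintype.sum_equiv (Equiv.mulLeft (⟨x, hx⟩ : V)) _ _ fun v => ?_
    rw [Equiv.coe_mulLeft, Subgroup.coe_mul, map_mul]
    rfl
  have hfw : ∀ w : E, f w = ρ (k : Y) ((Nat.card V : ℂ)⁻¹ • ∑ v : V, ρ (v : Y) w) := by
    intro w
    rw [hf, LinearMap.smul_apply, LinearMap.sum_apply, map_smul, map_sum]
    congr 1
    refine Finset.sum_congr rfl fun v _ => ?_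
    rw [map_mul]
    rfl
  have h1 : ∀ w, f w ∈ fixV V ρ := fun w => by
    rw [hfw]
    exact fixV_inv hn ρ k _ (hsum w)
  have h2 := LinearMap.trace_restrict_eq_of_forall_mem (fixV V ρ) f h1
  have h3 : f.restrict (fun w _ => h1 w) = repV hn ρ k := by
    ext w
    rw [LinearMap.coe_restrict_apply, coe_repV, hfw]
    congr 1
    have h4 : ∀ v : V, ρ (v : Y) w.1 = w.1 := fun v => w.2 v v.2
    rw [Finset.sum_congr rfl fun v _ => h4 v, Finset.sum_const, Finset.card_univ, ← Nat.cast_smul_eq_nsmul ℂ,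
      smul_smul, ← Nat.card_eq_fintype_card, inv_mul_cancel₀ hV0, one_smul]
  rw [h3] at h2
  show LinearMap.trace ℂ _ (repV hn ρ k) = _
  rw [h2, hf, map_smul, map_sum, smul_eq_mul]
  rfl

/-- Principal series passes to the fixed vectors. -/
theorem psr_repV [Finite Y] {B : Subgroup Y} [Fintype B] (hPS : PSr B ρ) {B' : Subgroup K} [Fintype B']
    (hd : ∀ g : Y, ∃ v ∈ V, ∃ l ∈ K, ∃ k : Y, ∃ b ∈ B, g = v * l * k * b ∧ ∀ c ∈ B', k⁻¹ * (c : Y) * k ∈ B) :
    PSr B' (repV hn ρ) := by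
  intro w hw
  apply Subtype.ext
  apply hPS
  intro g
  obtain ⟨v, hv, l, hl, k, b₀, hb₀, e, hk⟩ := hd g⁻¹
  have hg : g = b₀⁻¹ * (k⁻¹ * (l⁻¹ * v⁻¹)) := by
    rw [← inv_inv g, e]; group
  -- remove `v` and `b₀`
  have h1 : ρ g w.1 = ρ b₀⁻¹ (ρ k⁻¹ (ρ l⁻¹ w.1)) := by
    rw [hg, map_mul, map_mul, map_mul]
    show ρ b₀⁻¹ (ρ k⁻¹ (ρ l⁻¹ (ρ v⁻¹ w.1))) = _
    rw [w.2 v⁻¹ (inv_mem hv)]
  set F : E := ∑ b : B, ρ (b : Y) (ρ k⁻¹ (ρ l⁻¹ w.1)) with hF
  have h2 : ∑ b : B, ρ (b : Y) (ρ g w.1) = F := by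
    rw [h1, hF]
    refine Fintype.sum_equiv (Equiv.mulRight (⟨b₀, hb₀⟩ : B)⁻¹) _ _ fun b => ?_
    rw [Equiv.coe_mulRight, Subgroup.coe_mul, map_mul]
    rfl
  rw [h2]
  -- average over `B'`
  have h4 : ∀ c : B', ∑ b : B, ρ (b : Y) (ρ k⁻¹ (ρ ((c : K) : Y) (ρ l⁻¹ w.1))) = F := by
    intro c
    rw [hF]
    refine Fintype.sum_equiv (Equiv.mulRight (⟨k⁻¹ * ((c : K) : Y) * k, hk c c.2⟩ : B)) _ _ fun b => ?_
    rw [Equiv.coe_mulRight]
    have e1 : ((b * ⟨k⁻¹ * ((c : K) : Y) * k, hk c c.2⟩ : B) : Y) = (b : Y) * (k⁻¹ * ((c : K) : Y) * k) := rfl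
    rw [e1]
    have e2 : ∀ x : E, ρ ((b : Y) * (k⁻¹ * ((c : K) : Y) * k)) (ρ k⁻¹ x) = ρ (b : Y) (ρ k⁻¹ (ρ ((c : K) : Y) x)) := by
      intro x
      rw [← Module.End.mul_apply, ← map_mul]
      have e3 : (b : Y) * (k⁻¹ * ((c : K) : Y) * k) * k⁻¹ = (b : Y) * (k⁻¹ * ((c : K) : Y)) := by group
      rw [e3, map_mul, map_mul]
      rfl
    rw [e2]
  have h5 : (Nat.card B' : ℂ) • F = 0 := by
    have h6 : ∑ c : B', ∑ b : B, ρ (b : Y) (ρ k⁻¹ (ρ ((c : K) : Y) (ρ l⁻¹ w.1))) = (Nat.card B' : ℂ) • F := by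
      rw [Finset.sum_congr rfl fun c _ => h4 c, Finset.sum_const, Finset.card_univ, ← Nat.cast_smul_eq_nsmul ℂ,
        Nat.card_eq_fintype_card]
    rw [← h6, Finset.sum_comm]
    refine Finset.sum_eq_zero fun b _ => ?_
    have h7 := congrArg Subtype.val (hw ⟨l⁻¹, inv_mem hl⟩)
    have h8 : ∑ c : B', ρ ((c : K) : Y) (ρ l⁻¹ w.1) = 0 := by
      rw [AddSubmonoidClass.coe_finsetSum] at h7
      exact h7
    rw [← map_sum, ← map_sum, h8, map_zero, map_zero]
  have h7 : (Nat.card B' : ℂ) ≠ 0 := by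
    have : Finite B' := inferInstance
    exact_mod_cast Nat.card_pos.ne'
  exact (smul_eq_zero.1 h5).resolve_left h7

end fixV

end Cfsg.Agent.H152.PS
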