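import Cfsg.Agent.H152.PS.Rep

/-!
# Linear characters of `U` in a principal series representation (helper152)

`R : RGD cs h p T n X` in a finite group `Y` with `GG = ⊤`, `ρ` a complex representation of `Y` with `PSr B ρ`, `ψ : U →* ℂˣ` with
support `J`: the multiplicity of `ψ` in `ρ` is `∑ K ⊆ J, (-1) ^ |K| dim ρ ^ P_K`.
-/

set_option autoImplicit false
set_option linter.unusedSectionVars false

namespace Cfsg.Agent.H152.PS

open Cfsg CoxeterSystem Cfsg.Agent.ChevalleyStructure.CoxeterGeom Cfsg.Agent.Tits.Roots Cfsg.Agent.Tits.Core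
  Cfsg.Agent.Tits.Exchange Cfsg.Agent.Tits.OfBN Cfsg.Agent.LieExceptional.BNPairCore
  Cfsg.Agent.Nodes.Reps Cfsg.Agent.Nodes.BNOf Cfsg.Agent.Nodes.OppDec Cfsg.Agent.Nodes.Bruhat
  Cfsg.Agent.Nodes.LeviDec Cfsg.Agent.Nodes.StabComb
  Cfsg.Agent.Nodes.Comb Cfsg.Agent.Nodes.RGDLib Cfsg.Agent.Nodes.SubComb
  Cfsg.Agent.Nodes.Sub Cfsg.Agent.Nodes.ClsSub
  Cfsg.Agent.H167.SteinbergRGD Cfsg.Agent.H167.AltRGD
  Cfsg.Agent.H969.TT.Count Cfsg.Agent.H969.TT.TopAbs Cfsg.Agent.Characters.Core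
  Cfsg.Agent.H969.TT.TopRGD Cfsg.Agent.H969.TT.Levi

variable {I W Y : Type*} [Fintype I] [DecidableEq I] [Group W] [Group Y] {M : CoxeterMatrix I}
  {cs : CoxeterSystem M W} {A : I → I → ℤ} {h : IsCartan M A} {p : ℕ} {T : Subgroup Y} {n : I → Y}
  {X : (I → ℤ) → Subgroup Y} {E : Type*} [AddCommGroup E] [Module ℂ E]

/-- **Nondegenerate characters.** -/
theorem mult_alt' [Finite W] [Fintype Y] (R : RGD cs h p T n X) (hG : GG cs h T X = ⊤)
    [FiniteDimensional ℂ E] {ρ : Representation ℂ Y E} [Fintype (RGD.B cs h T X)] (hPS : PSr (RGD.B cs h T X) ρ)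
    [Fintype ↥(RGD.Sup X (RGD.Pos cs h))] (ψ : ↥(RGD.Sup X (RGD.Pos cs h)) →* ℂˣ)
    (hψ : ∀ i, ∃ u : ↥(RGD.Sup X (RGD.Pos cs h)), (u : Y) ∈ X (sr i) ∧ ψ u ≠ 1) :
    ∑ u : ↥(RGD.Sup X (RGD.Pos cs h)), ((ψ u⁻¹ : ℂˣ) : ℂ) * ρ.character u =
      (Nat.card ↥(RGD.Sup X (RGD.Pos cs h)) : ℂ) * ∑ K ∈ (Finset.univ : Finset I).powerset, (-1 : ℂ) ^ K.card *
      avg (RGD.B cs h T X ⊔ Subgroup.closure (n '' (K : Set I))) ρ.character := by
  classical
  obtain ⟨hirr, hval⟩ := exists_char_alt R (gen_of_GG R hG)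
  have hUT : ∀ x ∈ RGD.Sup X (RGD.Pos cs h), x ∈ T → x = 1 := by
    intro x hx hxT
    have h1 : x ∈ RGD.Sup X (RGD.Pos cs h) ⊓ T := ⟨hx, hxT⟩
    rw [U_inf_T R] at h1
    exact h1
  have hU1 : ∀ u : ↥(RGD.Sup X (RGD.Pos cs h)), u ≠ 1 →
      Nat.card {v : ↥(RGD.Sup X (RGD.Pos cs h)) // (v : Y)⁻¹ * u * v ∈ T} = 0 := by
    intro u hu
    rw [Nat.card_eq_zero]
    left
    refine ⟨fun v => hu ?_⟩
    have h1 := hUT _ (mul_mem (mul_mem (inv_mem v.1.2) u.2) v.1.2) v.2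
    have h2 : (u : Y) = 1 := by
      have h3 : (u : Y) = v.1 * ((v.1 : Y)⁻¹ * u * v.1) * (v.1 : Y)⁻¹ := by group
      rw [h3, h1]; group
    exact Subtype.ext h2
  have h11 : Nat.card {v : ↥(RGD.Sup X (RGD.Pos cs h)) // (v : Y)⁻¹ * (1 : Y) * v ∈ T} =
      Nat.card ↥(RGD.Sup X (RGD.Pos cs h)) := by
    refine Nat.card_congr (Equiv.subtypeUnivEquiv fun v => ?_)
    rw [mul_one, inv_mul_cancel]
    exact one_mem _
  have key := mult_eq' (RGD.B cs h T X) (RGD.Sup X (RGD.Pos cs h)) hPS ψ hirr (mult_cosets R hG ψ hψ) ?_ ?_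
  · rw [key]
    congr 1
    have h1 : (fun g => ∑ K ∈ (Finset.univ : Finset I).powerset, (-1 : ℂ) ^ K.card *
        fixedPointCharacter (RGD.B cs h T X ⊔ Subgroup.closure (n '' (K : Set I))) g) =
        ∑ K ∈ (Finset.univ : Finset I).powerset, ((-1 : ℂ) ^ K.card) •
        fixedPointCharacter (RGD.B cs h T X ⊔ Subgroup.closure (n '' (K : Set I))) := by
      funext g
      rw [Finset.sum_apply]
      rfl
    rw [h1, classInner_sum_right]
    refine Finset.sum_congr rfl fun K _ => ?_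
    rw [classInner_smul_right, classInner_fpc' _ (isCharacter_isClassFunction (isCharacter_of_rep ρ)), map_pow, map_neg,
      map_one]
  · rw [Finset.sum_eq_single 1]
    · rw [inv_one, map_one, Units.val_one, one_mul, Subgroup.coe_one, hval 1 (one_mem _), h11]
    · intro u _ hu
      rw [hval u (RGD.U_le_B u.2), hU1 u hu, Nat.cast_zero, mul_zero]
    · intro h1
      exact absurd (Finset.mem_univ _) h1
  · rw [Finset.sum_congr rfl fun (b : ↥(RGD.B cs h T X)) _ => hval b b.2, ← Nat.cast_sum, Nat.cast_ne_zero]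
    intro h1
    rw [Finset.sum_eq_zero_iff] at h1
    have h2 := h1 1 (Finset.mem_univ _)
    rw [Subgroup.coe_one, h11] at h2
    exact Nat.card_pos.ne' h2

section levi

variable {J' : Type*} [Fintype J'] [DecidableEq J'] (f : J' ↪ I)
variable {W' : Type*} [Group W'] (cs' : CoxeterSystem (leviMatrix f M) W')

include cs' in
/-- **(★)**. -/
theorem mult_levi' [Finite W] [Fintype Y] (R : RGD cs h p T n X) (hG : GG cs h T X = ⊤)
    [FiniteDimensional ℂ E] {ρ : Representation ℂ Y E} [Fintype (RGD.B cs h T X)] (hPS : PSr (RGD.B cs h T X) ρ)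
    [Fintype ↥(RGD.Sup X (RGD.Pos cs h))] (ψ : ↥(RGD.Sup X (RGD.Pos cs h)) →* ℂˣ)
    (hψ0 : ∀ u : ↥(RGD.Sup X (RGD.Pos cs h)), (u : Y) ∈ VJ cs h X (Set.range f) → ψ u = 1)
    (hψ : ∀ j, ∃ u : ↥(RGD.Sup X (RGD.Pos cs h)), (u : Y) ∈ X (sr (f j)) ∧ ψ u ≠ 1) :
    ∑ u : ↥(RGD.Sup X (RGD.Pos cs h)), ((ψ u⁻¹ : ℂˣ) : ℂ) * ρ.character u =
      (Nat.card ↥(RGD.Sup X (RGD.Pos cs h)) : ℂ) * ∑ K ∈ (Finset.univ : Finset J').powerset, (-1 : ℂ) ^ K.card *
      avg (RGD.B cs h T X ⊔ Subgroup.closure (n '' (f '' (K : Set J')))) ρ.character := by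
  classical
  set K₀ := LJ cs h T X (Set.range f) with hK₀
  set V := VJ cs h X (Set.range f) with hV
  have : Finite W' := (levi_subSys (cs := cs) (h := h) f).finite cs' (levi_isCartan f h)
  have hn := conj_V R (Set.range f)
  set R' := rgd' f cs' R with hR'
  set U' := RGD.Sup (X' cs h T X f) (RGD.Pos cs' (levi_isCartan f h)) with hU'
  set B' := RGD.B cs' (levi_isCartan f h) (T' cs h T X f) (X' cs h T X f) with hB'
  have hUU : ∀ u ∈ U', ((u : K₀) : Y) ∈ UJ cs h X (Set.range f) := by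
    intro u hu
    rw [← map_U' (T := T) f cs']
    exact ⟨u, hu, rfl⟩
  have hUU' : ∀ u ∈ U', ((u : K₀) : Y) ∈ RGD.Sup X (RGD.Pos cs h) := fun u hu => UJ_le_U _ (hUU u hu)
  let _ : Fintype K₀ := Fintype.ofFinite _
  let _ : Fintype B' := Fintype.ofFinite _
  let _ : Fintype V := Fintype.ofFinite _
  let _ : Fintype U' := Fintype.ofFinite _
  have hV0 : (Nat.card V : ℂ) ≠ 0 := card_ne_zero_complex
  -- the restriction of `ψ`
  let ψ' : ↥U' →* ℂˣ := ψ.comp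
    { toFun := fun u => ⟨((u : K₀) : Y), hUU' u u.2⟩
      map_one' := rfl
      map_mul' := fun _ _ => rfl }
  have hψ' : ∀ j, ∃ u : ↥U', (u : K₀) ∈ X' cs h T X f (sr j) ∧ ψ' u ≠ 1 := by
    intro j
    obtain ⟨u, hu, hne⟩ := hψ j
    have h1 : (u : Y) ∈ K₀ := X_le_LJ (PosJ_subset _ (sr_mem_PosJ (J := Set.range f) (Set.mem_range_self j))) hu
    have h2 : (⟨u, h1⟩ : K₀) ∈ X' cs h T X f (sr j) := by
      change (u : Y) ∈ X (iota _ (sr j))
      rw [iota_sr]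
      exact hu
    have h3 : sr j ∈ RGD.Pos cs' (levi_isCartan f h) := ⟨isRoot_sr cs' _ j, sr_nonneg j⟩
    exact ⟨⟨⟨u, h1⟩, RGD.le_Sup h3 h2⟩, h2, hne⟩
  have hB'B : ∀ c ∈ B', ((c : K₀) : Y) ∈ BJ cs h T X (Set.range f) := by
    intro c hc
    rw [← map_B' f cs']
    exact ⟨c, hc, rfl⟩
  have hPS' : PSr B' (repV hn ρ) := by
    refine psr_repV hn ρ hPS fun g => ?_
    obtain ⟨v, hv, l, hl, k, b, hb, e, hc⟩ := exists_dec R hG (Set.range f) g
    exact ⟨v, hv, l, hl, k, b, hb, e, fun c hc' => hc _ (hB'B c hc')⟩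
  have key := mult_alt' R' (GG'_eq_top f cs') hPS' ψ' hψ'
  have hKV : K₀ ⊓ V = ⊥ := LJ_inf_VJ R _
  -- the left side
  have hleft : ∑ u : ↥(RGD.Sup X (RGD.Pos cs h)), ((ψ u⁻¹ : ℂˣ) : ℂ) * ρ.character u =
      (Nat.card V : ℂ) * ∑ u : U', ((ψ' u⁻¹ : ℂˣ) : ℂ) * (repV hn ρ).character (u : K₀) ∧
      Nat.card ↥(RGD.Sup X (RGD.Pos cs h)) = Nat.card U' * Nat.card V := by
    let F : Y → ℂ := fun y => if hy : y ∈ RGD.Sup X (RGD.Pos cs h) then ((ψ ⟨y, hy⟩⁻¹ : ℂˣ) : ℂ) * ρ.character y else 0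
    have hF : ∀ u : ↥(RGD.Sup X (RGD.Pos cs h)), F u = ((ψ u⁻¹ : ℂˣ) : ℂ) * ρ.character u := by
      intro u
      simp only [F, dif_pos u.2]
    obtain ⟨h1, h2⟩ := sum_mul_of_dec (K := K₀) (V := V) (P := RGD.Sup X (RGD.Pos cs h)) (L := U') (VJ_le_U _) hUU'
      (fun g hg => by
        obtain ⟨u, hu, v, hv, e⟩ := (mem_U_iff R (J := Set.range f)).1 hg
        rw [← map_U' (T := T) f cs'] at hu
        obtain ⟨u', hu', rfl⟩ := hu
        exact ⟨u', hu', v, hv, e⟩) hKV F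
    refine ⟨?_, h2⟩
    rw [← Finset.sum_congr rfl fun u _ => hF u, h1, Finset.mul_sum]
    refine Finset.sum_congr rfl fun u _ => ?_
    rw [char_repV, mul_left_comm, ← mul_assoc (Nat.card V : ℂ), mul_inv_cancel₀ hV0, one_mul, Finset.mul_sum]
    refine Finset.sum_congr rfl fun v _ => ?_
    have h3 : ((u : K₀) : Y) * (v : Y) ∈ RGD.Sup X (RGD.Pos cs h) := mul_mem (hUU' _ u.2) (VJ_le_U _ v.2)
    simp only [F]
    rw [dif_pos h3]
    congr 2
    have h4 : (⟨((u : K₀) : Y) * (v : Y), h3⟩ : ↥(RGD.Sup X (RGD.Pos cs h)))⁻¹ =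
        ⟨(v : Y), VJ_le_U _ v.2⟩⁻¹ * ⟨((u : K₀) : Y), hUU' _ u.2⟩⁻¹ := by
      apply Subtype.ext
      change (((u : K₀) : Y) * (v : Y))⁻¹ = (v : Y)⁻¹ * ((u : K₀) : Y)⁻¹
      rw [mul_inv_rev]
    rw [h4, map_mul, map_inv, hψ0 ⟨(v : Y), VJ_le_U _ v.2⟩ v.2, inv_one, one_mul]
    rfl
  -- the right side
  have hright : ∀ K : Finset J', avg (RGD.B cs h T X ⊔ Subgroup.closure (n '' (f '' (K : Set J')))) ρ.character =
      avg (B' ⊔ Subgroup.closure (n' R f '' (K : Set J'))) (repV hn ρ).character := by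
    intro K
    let _ : Fintype ↥(RGD.B cs h T X ⊔ Subgroup.closure (n '' (f '' (K : Set J')))) := Fintype.ofFinite _
    let _ : Fintype ↥(B' ⊔ Subgroup.closure (n' R f '' (K : Set J'))) := Fintype.ofFinite _
    obtain ⟨h1, h2⟩ := sum_mul_of_dec (K := K₀) (V := V) (P := RGD.B cs h T X ⊔ Subgroup.closure (n '' (f '' (K : Set J'))))
      (L := B' ⊔ Subgroup.closure (n' R f '' (K : Set J')))
      (le_trans (VJ_le_B _) le_sup_left) (fun l hl => (mem_P_iff f cs' R _).2 ⟨l, hl, 1, one_mem _, (mul_one _).symm⟩)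
      (fun g hg => (mem_P_iff f cs' R _).1 hg) hKV ρ.character
    rw [avg_eq, avg_eq, h1, h2, Nat.cast_mul, mul_inv, mul_assoc, Finset.mul_sum]
    congr 1
    refine Finset.sum_congr rfl fun l _ => ?_
    rw [char_repV]
  rw [hleft.1, key, hleft.2, Nat.cast_mul, mul_comm (Nat.card U' : ℂ) (Nat.card V : ℂ), mul_assoc]
  congr 2
  refine Finset.sum_congr rfl fun K _ => ?_
  rw [hright K]

end levi

end Cfsg.Agent.H152.PS
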